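import Groth.Agent.LocCohLib.Finiteness
import Mathlib.RingTheory.Ideal.AssociatedPrime.Localization
import Mathlib.RingTheory.Ideal.AssociatedPrime.Finiteness

/-!
# Finiteness of the first local cohomology module through associated primes
-/

set_option autoImplicit false
set_option linter.style.haveILetI false
set_option linter.unusedSectionVars false
universe u

open LocCohLib

noncomputable section

namespace FinH1Lib

variable {A : Type u} [CommRing A] [IsNoetherianRing A] {I : Ideal A}
variable {N N₁ N₂ N₃ : Type u} [AddCommGroup N] [Module A N] [AddCommGroup N₁] [Module A N₁]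
  [AddCommGroup N₂] [Module A N₂] [AddCommGroup N₃] [Module A N₃]

theorem finite_H0 (N : Type u) [AddCommGroup N] [Module A N] [Module.Finite A N] :
    Module.Finite A (LocCoh.H I 0 N) :=
  Module.Finite.equiv (H0Equiv (I := I) N).symm

theorem finite_H1_of_inj [Module.Finite A N₂] (f : N₁ →ₗ[A] N₂) (hf : Function.Injective f)
    (h : Module.Finite A (LocCoh.H I 1 N₂)) : Module.Finite A (LocCoh.H I 1 N₁) := by
  haveI := finite_H0 (I := I) (N₂ ⧸ LinearMap.range f)
  exact finite_of_exact
    (exact_Hδ (I := I) hf (LinearMap.exact_map_mkQ_range f) (Submodule.mkQ_surjective _) 0).1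

theorem finite_H1_mid (f : N₁ →ₗ[A] N₂) (g : N₂ →ₗ[A] N₃) (hf : Function.Injective f)
    (hfg : Function.Exact f g) (hg : Function.Surjective g) (h₁ : Module.Finite A (LocCoh.H I 1 N₁))
    (h₃ : Module.Finite A (LocCoh.H I 1 N₃)) : Module.Finite A (LocCoh.H I 1 N₂) :=
  finite_of_exact (exact_Hf hf hfg hg 1)

theorem finite_H1_of_subsingleton [Subsingleton N] : Module.Finite A (LocCoh.H I 1 N) :=
  haveI := subsingleton_H_of_subsingleton (I := I) N 1
  inferInstance

theorem finite_H1_quotient_of_le (p : Ideal A) (h : I ≤ p) : Module.Finite A (LocCoh.H I 1 (A ⧸ p)) := by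
  haveI : Subsingleton (LocCoh.H I 1 (A ⧸ p)) := by
    refine subsingleton_H_of_torsion I (A ⧸ p) (fun m => ⟨1, fun a ha => ?_⟩) 1 one_pos
    obtain ⟨b, rfl⟩ := Submodule.mkQ_surjective p m
    rw [pow_one] at ha
    exact (Submodule.Quotient.mk_eq_zero p).2 (p.mul_mem_right b (h ha))
  infer_instance

/-- The saturation of a submodule at a prime. -/
def sat (p : Ideal A) [hp : p.IsPrime] (K : Submodule A N) : Submodule A N where
  carrier := {x | ∃ s ∉ p, s • x ∈ K}
  add_mem' := fun {x y} ⟨s, hs, hx⟩ ⟨t, ht, hy⟩ => ⟨s * t, fun h => (hp.mem_or_mem h).elim hs ht, by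
    rw [smul_add]
    exact add_mem (by rw [mul_comm, mul_smul]; exact K.smul_mem t hx) (by rw [mul_smul]; exact K.smul_mem s hy)⟩
  zero_mem' := ⟨1, fun h => hp.ne_top ((Ideal.eq_top_iff_one _).2 h), by simp⟩
  smul_mem' := fun r x ⟨s, hs, hx⟩ => ⟨s, hs, by rw [smul_comm]; exact K.smul_mem r hx⟩

theorem mem_sat {p : Ideal A} [hp : p.IsPrime] {K : Submodule A N} {x : N} :
    x ∈ sat p K ↔ ∃ s ∉ p, s • x ∈ K := Iff.rfl

theorem le_sat (p : Ideal A) [hp : p.IsPrime] (K : Submodule A N) : K ≤ sat p K := fun x hx =>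
  ⟨1, fun h => hp.ne_top ((Ideal.eq_top_iff_one _).2 h), by rwa [one_smul]⟩

theorem sat_saturated (p : Ideal A) [hp : p.IsPrime] (K : Submodule A N) (s : A) (hs : s ∉ p) (x : N)
    (h : s • x ∈ sat p K) : x ∈ sat p K := by
  obtain ⟨t, ht, h⟩ := h
  exact ⟨t * s, fun hm => (hp.mem_or_mem hm).elim ht hs, by rwa [mul_smul]⟩

/-- A single element kills the saturation modulo the submodule. -/
theorem exists_smul_sat_le [Module.Finite A N] (p : Ideal A) [hp : p.IsPrime] (K : Submodule A N) :
    ∃ s ∉ p, ∀ x ∈ sat p K, s • x ∈ K := by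
  classical
  obtain ⟨S, hS⟩ := (IsNoetherian.noetherian (sat p K) : Submodule.FG _)
  have hz : ∀ x : S, ∃ s ∉ p, s • (x : N) ∈ K := fun x => mem_sat.1 (hS ▸ Submodule.subset_span x.2)
  choose s hs hsx using hz
  refine ⟨∏ x, s x, fun h => ?_, fun x hx => ?_⟩
  · obtain ⟨x, -, hx⟩ := hp.prod_mem_iff.1 h
    exact hs x hx
  · have hle : sat p K ≤ K.comap (LinearMap.lsmul A N (∏ x, s x)) := by
      rw [← hS, Submodule.span_le]
      intro y hy
      show (∏ x, s x) • y ∈ K
      rw [← Finset.prod_erase_mul _ _ (Finset.mem_univ (⟨y, hy⟩ : S)), mul_smul]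
      exact K.smul_mem _ (hsx ⟨y, hy⟩)
    exact hle hx

/-- A module which is torsion free outside a minimal prime of its support. -/
theorem finite_H1_quot_of_saturated [Module.Finite A N] (p : Ideal A) [hp : p.IsPrime]
    (hmin : p ∈ (Module.annihilator A N).minimalPrimes) (h1 : Module.Finite A (LocCoh.H I 1 (A ⧸ p)))
    (K : Submodule A N) :
    (∀ s ∉ p, ∀ x, s • x ∈ K → x ∈ K) → Module.Finite A (LocCoh.H I 1 (N ⧸ K)) := by
  induction K using WellFoundedGT.induction with
  | ind K ih =>
    intro hK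
    by_cases htop : K = ⊤
    · subst htop
      exact finite_H1_of_subsingleton
    haveI : Nontrivial (N ⧸ K) := Submodule.Quotient.nontrivial_iff.2 htop
    obtain ⟨q, hq⟩ := associatedPrimes.nonempty A (N ⧸ K)
    have hann : Module.annihilator A N ≤ q := fun a ha =>
      IsAssociatedPrime.annihilator_le hq (Submodule.mem_annihilator.2 fun z _ => by
        obtain ⟨x, rfl⟩ := K.mkQ_surjective z
        rw [← map_smul, Module.mem_annihilator.1 ha, map_zero])
    obtain ⟨hqp, z, hz⟩ := isAssociatedPrime_iff.1 hq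
    obtain ⟨x, rfl⟩ := K.mkQ_surjective z
    have hxK : x ∉ K := fun h => hqp.ne_top (by
      rw [hz, Submodule.mkQ_apply, (Submodule.Quotient.mk_eq_zero K).2 h]
      exact (Ideal.eq_top_iff_one _).2 (Submodule.mem_colon_singleton.2 (by simp)))
    have hle : q ≤ p := fun a ha => by
      by_contra hap
      rw [hz, Submodule.mem_colon_singleton, Submodule.mem_bot, ← map_smul] at ha
      exact hxK (hK a hap x ((Submodule.Quotient.mk_eq_zero K).1 ha))
    obtain rfl : q = p := le_antisymm hle (hmin.2 ⟨hqp, hann⟩ hle)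
    let K' := sat q (K ⊔ Submodule.span A {x})
    have hlt : K < K' := lt_of_lt_of_le
      (left_lt_sup.2 fun h => hxK (h (Submodule.mem_span_singleton_self x))) (le_sat _ _)
    have h3 := ih K' hlt (sat_saturated q _)
    obtain ⟨s, hs, hsK⟩ := exists_smul_sat_le q (K ⊔ Submodule.span A {x})
    let g : (N ⧸ K) →ₗ[A] (N ⧸ K') := Submodule.factor hlt.le
    let J : (A ⧸ q) →ₗ[A] (N ⧸ K) := Submodule.liftQ q (LinearMap.toSpanSingleton A _ (K.mkQ x)) (fun a ha => by
      rw [LinearMap.mem_ker, LinearMap.toSpanSingleton_apply]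
      rw [hz, Submodule.mem_colon_singleton, Submodule.mem_bot] at ha
      exact ha)
    have hJ : Function.Injective J := by
      refine LinearMap.ker_eq_bot.1 (Submodule.ker_liftQ_eq_bot _ _ _ fun a ha => ?_)
      rw [hz, Submodule.mem_colon_singleton, Submodule.mem_bot]
      exact ha
    have hrange : ∀ v ∈ LinearMap.ker g, s • v ∈ LinearMap.range J := by
      intro v hv
      obtain ⟨y, rfl⟩ := K.mkQ_surjective v
      have hy : y ∈ K' := (Submodule.Quotient.mk_eq_zero K').1 hv
      obtain ⟨k, hk, w, hw, hkw⟩ := Submodule.mem_sup.1 (hsK y hy)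
      obtain ⟨a, rfl⟩ := Submodule.mem_span_singleton.1 hw
      refine ⟨Submodule.Quotient.mk a, ?_⟩
      show a • K.mkQ x = s • K.mkQ y
      rw [← map_smul, ← map_smul, ← hkw, map_add, show K.mkQ k = 0 from (Submodule.Quotient.mk_eq_zero K).2 hk, zero_add]
    let φ : LinearMap.ker g →ₗ[A] (A ⧸ q) := (LinearEquiv.ofInjective J hJ).symm.toLinearMap ∘ₗ
      (LinearMap.lsmul A (N ⧸ K) s ∘ₗ (LinearMap.ker g).subtype).codRestrict _ (fun v => hrange v.1 v.2)
    have hφ : Function.Injective φ := by
      intro v v' h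
      refine Subtype.ext (sub_eq_zero.1 ?_)
      have h' : s • (v.1 : N ⧸ K) = s • v'.1 := congrArg Subtype.val ((LinearEquiv.ofInjective J hJ).symm.injective h)
      rw [← sub_eq_zero, ← smul_sub] at h'
      obtain ⟨y, hy⟩ := K.mkQ_surjective (v.1 - v'.1)
      rw [← hy, ← map_smul] at h'
      rw [← hy]
      exact (Submodule.Quotient.mk_eq_zero K).2 (hK s hs y ((Submodule.Quotient.mk_eq_zero K).1 h'))
    exact finite_H1_mid (LinearMap.ker g).subtype g Subtype.val_injective (LinearMap.exact_subtype_ker_map g)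
      (Submodule.factor_surjective hlt.le) (finite_H1_of_inj φ hφ h1) h3

/-- Finiteness of `H¹` from the associated primes. -/
theorem finite_H1_of_assoc (n : ℕ) : ∀ (M : Type u) [AddCommGroup M] [Module A M] [Module.Finite A M],
    (associatedPrimes A M).ncard ≤ n →
    (∀ p ∈ associatedPrimes A M, Module.Finite A (LocCoh.H I 1 (A ⧸ p))) →
    Module.Finite A (LocCoh.H I 1 M) := by
  induction n with
  | zero =>
    intro M _ _ _ hn _
    rcases subsingleton_or_nontrivial M with h | h
    · exact finite_H1_of_subsingleton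
    · obtain ⟨p, hp⟩ := associatedPrimes.nonempty A M
      rw [Nat.le_zero, Set.ncard_eq_zero (associatedPrimes.finite A M)] at hn
      exact absurd hp (hn ▸ Set.notMem_empty p)
  | succ n ih =>
    intro M _ _ _ hn hgood
    rcases subsingleton_or_nontrivial M with h | h
    · exact finite_H1_of_subsingleton
    have hne : Module.annihilator A M ≠ ⊤ := by
      rw [Ne, Module.annihilator_eq_top_iff]
      exact not_subsingleton M
    obtain ⟨p, hpmin⟩ := (Ideal.nonempty_minimalPrimes hne)
    have hp : p ∈ associatedPrimes A M :=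
      Module.associatedPrimes.minimalPrimes_annihilator_subset_associatedPrimes A M hpmin
    haveI := hpmin.1.1
    let K := sat p (⊥ : Submodule A M)
    have hsub : associatedPrimes A K ⊆ associatedPrimes A M \ {p} := fun q hq =>
      ⟨associatedPrimes.subset_of_injective K.injective_subtype hq, fun hqp => by
        obtain rfl : q = p := hqp
        obtain ⟨-, x, hx⟩ := isAssociatedPrime_iff.1 hq
        obtain ⟨s, hs, hsx⟩ := mem_sat.1 x.2
        refine hs (hx ▸ Submodule.mem_colon_singleton.2 ((Submodule.mem_bot A).2 (Subtype.ext ?_)))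
        exact (Submodule.mem_bot A).1 hsx⟩
    have hcard : (associatedPrimes A K).ncard ≤ n := by
      have := Set.ncard_le_ncard hsub ((associatedPrimes.finite A M).sdiff)
      rw [Set.ncard_sdiff_singleton_of_mem hp] at this
      omega
    exact finite_H1_mid K.subtype K.mkQ K.injective_subtype (LinearMap.exact_subtype_mkQ K) K.mkQ_surjective
      (ih K hcard fun q hq => hgood q (hsub hq).1)
      (finite_H1_quot_of_saturated p hpmin (hgood p hp) K (sat_saturated p ⊥))

theorem finite_H1_iff (M : Type u) [AddCommGroup M] [Module A M] [Module.Finite A M] :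
    Module.Finite A (LocCoh.H I 1 M) ↔
      ∀ p : Ideal A, p ∈ associatedPrimes A M → ¬ I ≤ p → Module.Finite A (LocCoh.H I 1 (A ⧸ p)) := by
  refine ⟨fun h p hp _ => ?_, fun h => finite_H1_of_assoc _ M le_rfl fun p hp => ?_⟩
  · obtain ⟨-, f, hf⟩ := (isAssociatedPrime_iff_exists_injective_linearMap p M).1 hp
    exact finite_H1_of_inj f hf h
  · by_cases hI : I ≤ p
    · exact finite_H1_quotient_of_le p hI
    · exact h p hp hI

end FinH1Lib
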