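import Groth.Agent.FinH1Lib.Kollar
import Groth.Agent.CatLib.Ratliff
import Groth.Agent.CatLib.More
import Groth.Agent.NormalLib.CompletionReduced
import Groth.Agent.NagataFG.Main

/-!
# Finiteness of the first local cohomology module from dimensions
-/

set_option autoImplicit false
set_option linter.style.haveILetI false
set_option linter.unusedSectionVars false
universe u

open LocCohLib IsLocalRing

noncomputable section

namespace FinH1Lib

variable {A : Type u} [CommRing A] [IsNoetherianRing A]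

theorem finite_of_restrict (I : Ideal A) (p : Ideal A)
    [Module.Finite (A ⧸ p) (LocCoh.H (I.map (algebraMap A (A ⧸ p))) 1 (A ⧸ p))] :
    Module.Finite A (LocCoh.H I 1 (A ⧸ p)) := by
  obtain ⟨φ, hφ⟩ := LocCohLib.exists_addEquiv_restrict (R := A) (R' := A ⧸ p) I (A ⧸ p) 1
  obtain ⟨s, hs⟩ := Module.Finite.fg_top (R := A ⧸ p) (M := LocCoh.H (I.map (algebraMap A (A ⧸ p))) 1 (A ⧸ p))
  refine ⟨⟨s.map φ.toEquiv.toEmbedding, eq_top_iff.2 fun y _ => ?_⟩⟩
  obtain ⟨x, rfl⟩ := φ.surjective y
  have hx : x ∈ Submodule.span (A ⧸ p) (s : Set (LocCoh.H (I.map (algebraMap A (A ⧸ p))) 1 (A ⧸ p))) :=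
    hs ▸ Submodule.mem_top
  induction hx using Submodule.span_induction with
  | mem z hz => exact Submodule.subset_span (Finset.mem_map_of_mem _ hz)
  | zero => rw [map_zero]; exact zero_mem _
  | add a b _ _ ha hb => rw [map_add]; exact add_mem (ha trivial) (hb trivial)
  | smul d a _ ha =>
    obtain ⟨c, rfl⟩ := Ideal.Quotient.mk_surjective d
    rw [← Ideal.Quotient.algebraMap_eq, hφ]
    exact Submodule.smul_mem _ c (ha trivial)

/-- Finiteness from witnesses at the quotients by associated primes. -/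
theorem finite_H1_of_witness_assoc (I : Ideal A) (M : Type u) [AddCommGroup M] [Module A M] [Module.Finite A M]
    (h : ∀ p ∈ associatedPrimes A M, ¬ I ≤ p → ∀ (Q : Ideal (A ⧸ p)) [Q.IsPrime],
      I.map (algebraMap A (A ⧸ p)) ≤ Q → Witness Q) : Module.Finite A (LocCoh.H I 1 M) :=
  (finite_H1_iff M).2 fun p hp hpI =>
    haveI := finite_H1_of_witness (I.map (algebraMap A (A ⧸ p))) (h p hp hpI)
    finite_of_restrict I p

/-- The chain condition bounds the dimension of the local ring of the quotient. -/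
theorem two_le_dim_of_height (I : Ideal A) (p : PrimeSpectrum A)
    (h : ∀ (q : PrimeSpectrum A) (hpq : p ≤ q), I ≤ q.asIdeal → (2 : ℕ∞) ≤ Order.height (⟨q, hpq⟩ : Set.Ici p))
    (Q : Ideal (A ⧸ p.asIdeal)) [Q.IsPrime] (hQ : I.map (algebraMap A (A ⧸ p.asIdeal)) ≤ Q) :
    (2 : WithBot ℕ∞) ≤ ringKrullDim (Localization.AtPrime Q) := by
  rw [IsLocalization.AtPrime.ringKrullDim_eq_height Q]
  let q : PrimeSpectrum A := ⟨Q.comap (algebraMap A (A ⧸ p.asIdeal)), inferInstance⟩
  have hpq : p ≤ q := fun a ha => by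
    show algebraMap A (A ⧸ p.asIdeal) a ∈ Q
    rw [show algebraMap A (A ⧸ p.asIdeal) a = 0 from Ideal.Quotient.eq_zero_iff_mem.2 ha]
    exact zero_mem Q
  let g : Set.Ici p → PrimeSpectrum (A ⧸ p.asIdeal) := fun r =>
    ⟨r.1.asIdeal.map (Ideal.Quotient.mk p.asIdeal),
      Ideal.map_isPrime_of_surjective Ideal.Quotient.mk_surjective (by rw [Ideal.mk_ker]; exact r.2)⟩
  have hg : StrictMono g := fun r r' hlt => by
    refine lt_of_le_of_ne (Ideal.map_mono hlt.le) fun he => hlt.ne ?_
    have h3 := congrArg (fun P : PrimeSpectrum (A ⧸ p.asIdeal) => P.asIdeal.comap (Ideal.Quotient.mk p.asIdeal)) he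
    simp only [g, Ideal.comap_map_of_surjective _ Ideal.Quotient.mk_surjective, ← RingHom.ker_eq_comap_bot,
      Ideal.mk_ker] at h3
    rw [sup_eq_left.2 r.2, sup_eq_left.2 r'.2] at h3
    exact Subtype.ext (PrimeSpectrum.ext h3)
  have h1 := (h q hpq (Ideal.map_le_iff_le_comap.1 hQ)).trans (Order.height_le_height_apply_of_strictMono g hg _)
  have h2 : g ⟨q, hpq⟩ = ⟨Q, inferInstance⟩ :=
    PrimeSpectrum.ext (Ideal.map_comap_of_surjective _ Ideal.Quotient.mk_surjective Q)
  rw [h2] at h1
  rw [← PrimeSpectrum.height_eq_orderHeight ⟨Q, inferInstance⟩] at h1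
  exact WithBot.coe_le_coe.2 h1

theorem minimal_of_mem_associatedPrimes {C : Type u} [CommRing C] [IsNoetherianRing C] [IsReduced C] {P : Ideal C}
    (hP : P ∈ associatedPrimes C C) : P ∈ minimalPrimes C := by
  obtain ⟨hPp, x, hx⟩ := isAssociatedPrime_iff.1 hP
  have hx0 : x ≠ 0 := by
    rintro rfl
    exact hPp.ne_top (hx.trans ((Ideal.eq_top_iff_one _).2 (Submodule.mem_colon_singleton.2 (by simp))))
  obtain ⟨p₀, hp₀, hxp⟩ : ∃ p₀ ∈ minimalPrimes C, x ∉ p₀ := by
    by_contra hne
    push Not at hne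
    refine hx0 (isNilpotent_iff_eq_zero.1 ?_)
    rw [← mem_nilradical, nilradical, ← Ideal.sInf_minimalPrimes]
    exact Submodule.mem_sInf.2 hne
  haveI := hp₀.1.1
  have hle : P ≤ p₀ := fun a ha => by
    rw [hx, Submodule.mem_colon_singleton, Submodule.mem_bot, smul_eq_mul] at ha
    exact (hp₀.1.1.mem_or_mem (ha ▸ zero_mem p₀)).resolve_right hxp
  rwa [le_antisymm hle (hp₀.2 ⟨hPp, bot_le⟩ hle)]

/-- The witness for Nagata universally catenary quotients. -/
theorem witness_of_nagata {D : Type u} [CommRing D] [IsNoetherianRing D] [IsDomain D] (hN : CAlg.IsNagata D)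
    (hU : CAlg.IsUniversallyCatenary D) (Q : Ideal D) [Q.IsPrime]
    (h : (2 : WithBot ℕ∞) ≤ ringKrullDim (Localization.AtPrime Q)) : Witness Q := by
  let R := Localization.AtPrime Q
  haveI : IsNoetherianRing R := IsLocalization.isNoetherianRing Q.primeCompl _ inferInstance
  haveI : IsDomain R := IsLocalization.isDomain_localization Q.primeCompl_le_nonZeroDivisors
  haveI : Module.Flat D R := IsLocalization.flat R Q.primeCompl
  refine witness_completion (R := R) Q Localization.AtPrime.map_eq_maximalIdeal.symm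
    (IsLocalization.AtPrime.under_maximalIdeal R Q) _ rfl fun P hP => ?_
  haveI := CatLib.isNoetherianRing_cpl R
  haveI : IsReduced (AdicCompletion (maximalIdeal R) R) := by
    have h := NormalLib.isReduced_completion_finite (NagataFG.isNagata_of_isLocalization Q.primeCompl R hN) R
    rwa [Algebra.algebraMap_self, Ideal.map_id] at h
  obtain ⟨d, hd⟩ : ∃ d : ℕ, ringKrullDim R = d := by
    rw [← IsLocalRing.maximalIdeal_height_eq_ringKrullDim]
    obtain ⟨n, hn⟩ := ENat.ne_top_iff_exists.1
      (Ideal.height_ne_top (I := IsLocalRing.maximalIdeal R) Ideal.IsPrime.ne_top')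
    exact ⟨n, by rw [← hn]; rfl⟩
  rw [CatLib.isFormallyEquidim_of_isUniversallyCatenary d R
    (CatLib.isUniversallyCatenary_of_isLocalization Q.primeCompl R hU) hd P (minimal_of_mem_associatedPrimes hP),
    CatLib.ringKrullDim_cpl]
  exact h

end FinH1Lib
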