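import Groth.Agent.FinH1Lib.Dim
import Groth.Agent.GeomRedFibLib.CMFormal
import Groth.Agent.GeomRedFibLib.LocalPropSerre

/-!
# Finiteness of the first local cohomology module with `(S₁)` formal fibres
-/

set_option autoImplicit false
set_option linter.style.haveILetI false
set_option linter.unusedSectionVars false
set_option synthInstance.maxHeartbeats 400000
set_option maxHeartbeats 800000
universe u

open LocCohLib IsLocalRing GeomRedFibLib

noncomputable section

namespace FinH1Lib

/-- `(S_n)` formal fibres pass to a homomorphic image. -/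
theorem hasSnFormalFibres_of_surjective (n : ℕ) (R S : Type u) [CommRing R] [IsLocalRing R] [IsNoetherianRing R]
    [CommRing S] [IsLocalRing S] [Algebra R S] (hs : Function.Surjective (algebraMap R S))
    (hR : EGA4.HasSnFormalFibres n R) : EGA4.HasSnFormalFibres n S := by
  haveI : IsNoetherianRing S := isNoetherianRing_of_surjective R S (algebraMap R S) hs
  haveI := GeomRedFibLib.isNoetherianRing_cpl R
  haveI := GeomRedFibLib.isNoetherianRing_cpl S
  obtain ⟨e⟩ := exists_cplSurjEquiv R S hs
  intro p' _
  haveI := isNoetherianRing_fiber R (EGA4.Cpl R) (p'.comap (algebraMap R S))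
  haveI := isNoetherianRing_fiber S (EGA4.Cpl S) p'
  refine (GeomRedFibLib.hasSk_iff n _).2 (fiber_baseChange e _ p' (fun T _ ↦ RingP (SkLoc n) T)
    (fun _ _ _ _ σ h ↦ RingP.congr (isFlatLocalProp_skLoc n) σ h)
    (RingHom.surjectiveOnStalks_of_surjective hs) rfl
    ((GeomRedFibLib.hasSk_iff n _).1 (hR (p'.comap (algebraMap R S)))))

/-- A domain satisfies `(S₁)`. -/
theorem skLoc_one_of_domain (R : Type u) [CommRing R] [IsNoetherianRing R] [IsDomain R] : RingP (SkLoc 1) R := by
  intro q _
  haveI : IsNoetherianRing (Localization.AtPrime q) := IsLocalization.isNoetherianRing q.primeCompl _ inferInstance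
  haveI : IsDomain (Localization.AtPrime q) := IsLocalization.isDomain_localization q.primeCompl_le_nonZeroDivisors
  refine ⟨inferInstance, inferInstance, ?_⟩
  rcases (bot_le : (⊥ : Ideal (Localization.AtPrime q)) ≤ maximalIdeal _).eq_or_lt with h | h
  · letI := (IsLocalRing.isField_iff_maximalIdeal_eq.2 h.symm).toField
    rw [ringKrullDim_eq_zero_of_field]
    exact (min_le_right _ _).trans (WithBot.coe_le_coe.2 bot_le)
  · obtain ⟨x, hx, hx0⟩ := SetLike.exists_of_lt h
    refine (min_le_left _ _).trans ?_
    have h1 : ((1 : ℕ) : ℕ∞) ≤ LocCoh.depth (Localization.AtPrime q) (Localization.AtPrime q) :=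
      (CommAlgDim.le_depth_iff 1).2
        (CommAlgDim.hasSeqIn_succ_of_cons hx (fun a b hab => mul_left_cancel₀ (fun h0 => hx0 h0) hab)
          (CommAlgDim.hasSeqIn_zero _))
    exact WithBot.coe_le_coe.2 h1

theorem minimal_of_skLoc_one {C : Type u} [CommRing C] [IsNoetherianRing C] (hC : RingP (SkLoc 1) C) {P : Ideal C}
    (hP : P ∈ associatedPrimes C C) : P ∈ minimalPrimes C := by
  haveI := hP.1
  obtain ⟨_, _, h⟩ := hC P
  have hass : maximalIdeal (Localization.AtPrime P) ∈
      associatedPrimes (Localization.AtPrime P) (Localization.AtPrime P) := by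
    refine Module.associatedPrimes.mem_associatedPrimes_of_comap_mem_associatedPrimes_of_isLocalizedModule
      P.primeCompl (Algebra.linearMap C (Localization.AtPrime P)) _ ?_
    rw [← Ideal.under_def, IsLocalization.AtPrime.under_maximalIdeal (Localization.AtPrime P) P]
    exact hP
  rw [← Ideal.height_eq_zero_iff]
  by_contra hne
  have hd : ((1 : ℕ) : WithBot ℕ∞) ≤ ringKrullDim (Localization.AtPrime P) := by
    rw [IsLocalization.AtPrime.ringKrullDim_eq_height P]
    exact WithBot.coe_le_coe.2 (Order.one_le_iff_pos.2 (pos_of_ne_zero hne))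
  have h1 : ((1 : ℕ) : ℕ∞) ≤ LocCoh.depth (Localization.AtPrime P) (Localization.AtPrime P) :=
    WithBot.coe_le_coe.1 ((le_min le_rfl hd).trans h)
  exact (CommAlgDim.hasSeqIn_one_iff _).1 ((CommAlgDim.le_depth_iff 1).1 h1) _ hass le_rfl

/-- The witness for universally catenary quotients with `(S₁)` formal fibres. -/
theorem witness_of_S1 {D : Type u} [CommRing D] [IsNoetherianRing D] [IsDomain D]
    (hU : CAlg.IsUniversallyCatenary D) (Q : Ideal D) [Q.IsPrime]
    (hF : EGA4.HasSnFormalFibres 1 (Localization.AtPrime Q))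
    (h : (2 : WithBot ℕ∞) ≤ ringKrullDim (Localization.AtPrime Q)) : Witness Q := by
  let R := Localization.AtPrime Q
  haveI : IsNoetherianRing R := IsLocalization.isNoetherianRing Q.primeCompl _ inferInstance
  haveI : IsDomain R := IsLocalization.isDomain_localization Q.primeCompl_le_nonZeroDivisors
  haveI : Module.Flat D R := IsLocalization.flat R Q.primeCompl
  refine witness_completion (R := R) Q Localization.AtPrime.map_eq_maximalIdeal.symm
    (IsLocalization.AtPrime.under_maximalIdeal R Q) _ rfl fun P hP => ?_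
  haveI := GeomRedFibLib.isNoetherianRing_cpl R
  haveI := GeomRedFibLib.faithfullyFlat_hat R
  have hS : RingP (SkLoc 1) (EGA4.Cpl R) :=
    RingP.asc (isFlatLocalProp_skLoc 1) R (EGA4.Cpl R) (skLoc_one_of_domain R) fun p _ ↦ by
      haveI := isNoetherianRing_fiber R (EGA4.Cpl R) p
      exact (GeomRedFibLib.hasSk_iff 1 _).1 (hF p)
  obtain ⟨d, hd⟩ : ∃ d : ℕ, ringKrullDim R = d := by
    rw [← IsLocalRing.maximalIdeal_height_eq_ringKrullDim]
    obtain ⟨n, hn⟩ := ENat.ne_top_iff_exists.1
      (Ideal.height_ne_top (I := IsLocalRing.maximalIdeal R) Ideal.IsPrime.ne_top')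
    exact ⟨n, by rw [← hn]; rfl⟩
  rw [CatLib.isFormallyEquidim_of_isUniversallyCatenary d R
    (CatLib.isUniversallyCatenary_of_isLocalization Q.primeCompl R hU) hd P (minimal_of_skLoc_one hS hP),
    CatLib.ringKrullDim_cpl]
  exact h

end FinH1Lib
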