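import Groth.Agent.FinH1Lib.Basic
import Groth.Agent.LocCohLib.BaseChange
import Groth.Agent.LocCohLib.FiniteLocal
import Groth.Agent.FalLib.Criteria
import Groth.Agent.CommAlgDim.Depth
import Groth.Agent.AdicRingLib.Completion
import Groth.Agent.DualCxLib.CompleteDual
import Mathlib.RingTheory.Finiteness.Descent
import Mathlib.RingTheory.Flat.Localization
import Mathlib.RingTheory.Flat.FaithfullyFlat.Algebra
import Mathlib.RingTheory.AdicCompletion.LocalRing
import Mathlib.RingTheory.AdicCompletion.AsTensorProduct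

/-!
# Kollár's criterion for the first local cohomology module
-/

set_option autoImplicit false
set_option linter.style.haveILetI false
set_option linter.unusedSectionVars false
set_option maxHeartbeats 800000
universe u

open LocCohLib IsLocalRing CategoryTheory
open scoped TensorProduct

noncomputable section

namespace FinH1Lib

variable {D : Type u} [CommRing D] [IsNoetherianRing D]

/-- Flat base change of `H¹_J(D)`. -/
def baseEquiv (J : Ideal D) (L : Type u) [CommRing L] [IsNoetherianRing L] [Algebra D L] [Module.Flat D L] :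
    L ⊗[D] LocCoh.H J 1 D ≃ₗ[L] LocCoh.H (J.map (algebraMap D L)) 1 L :=
  (tensLcEquiv J D 1).trans
    ((localCohomology (J.map (algebraMap D L)) 1).mapIso
      (TensorProduct.AlgebraTensorModule.rid D L L).toModuleIso).toLinearEquiv

theorem isUnit_of_comap {L : Type u} [CommRing L] [Algebra D L] (q : Ideal D) [q.IsPrime]
    (h : ∀ s ∉ q, IsUnit (algebraMap D L s)) : ∀ s : q.primeCompl, IsUnit (algebraMap D L s) :=
  fun s => h s.1 s.2

/-- Tensoring with an algebra over a localization. -/
def locEquiv (q : Ideal D) [q.IsPrime] (L : Type u) [CommRing L] [Algebra D L] [Algebra (Localization.AtPrime q) L]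
    [IsScalarTower D (Localization.AtPrime q) L] (H : Type u) [AddCommGroup H] [Module D H] :
    L ⊗[D] H ≃ₗ[L] L ⊗[Localization.AtPrime q] LocalizedModule q.primeCompl H :=
  ((IsLocalizedModule.isBaseChange q.primeCompl (Localization.AtPrime q)
    (LocalizedModule.mkLinearMap q.primeCompl H)).comp
    (TensorProduct.isBaseChange (Localization.AtPrime q) (LocalizedModule q.primeCompl H) L)).equiv

theorem finite_tensor_of_finite_localized (q : Ideal D) [q.IsPrime] (L : Type u) [CommRing L] [Algebra D L]
    (h : ∀ s ∉ q, IsUnit (algebraMap D L s)) (H : Type u) [AddCommGroup H] [Module D H]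
    (hH : Module.Finite (Localization.AtPrime q) (LocalizedModule q.primeCompl H)) : Module.Finite L (L ⊗[D] H) := by
  letI : Algebra (Localization.AtPrime q) L :=
    (IsLocalization.lift (M := q.primeCompl) (S := Localization.AtPrime q) (isUnit_of_comap q h)).toAlgebra
  haveI : IsScalarTower D (Localization.AtPrime q) L :=
    IsScalarTower.of_algebraMap_eq' (IsLocalization.lift_comp (isUnit_of_comap q h)).symm
  exact Module.Finite.equiv (locEquiv q L H).symm

theorem subsingleton_loc_H_of_not_le (J : Ideal D) (Q : Ideal D) [Q.IsPrime] (hJ : ¬ J ≤ Q) :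
    Subsingleton (LocalizedModule Q.primeCompl (LocCoh.H J 1 D)) := by
  obtain ⟨x, hxJ, hxQ⟩ := SetLike.not_le_iff_exists.1 hJ
  rw [LocalizedModule.subsingleton_iff]
  intro y
  obtain ⟨k, hk⟩ := isPowerTorsion_H J 1 D y
  exact ⟨x ^ k, fun h => hxQ (Ideal.IsPrime.mem_of_pow_mem ‹_› k h), hk _ (Ideal.pow_mem_pow hxJ k)⟩

theorem finite_localized_H0 (J Q : Ideal D) [Q.IsPrime] :
    Module.Finite (Localization.AtPrime Q) (LocalizedModule Q.primeCompl (LocCoh.H J 0 D)) :=
  haveI := finite_H0 (I := J) D
  inferInstance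

/-- A witness for the completion condition at a prime. -/
def Witness (Q : Ideal D) : Prop :=
  ∃ (C : Type u) (_ : CommRing C) (_ : Algebra D C) (_ : IsNoetherianRing C) (_ : IsLocalRing C),
    Module.Flat D C ∧ maximalIdeal C = Q.map (algebraMap D C) ∧ (maximalIdeal C).comap (algebraMap D C) = Q ∧
    (∃ (S : Type u) (_ : CommRing S) (_ : IsRegularRing S) (π : S →+* C), Function.Surjective π) ∧
    ∀ P ∈ associatedPrimes C C, (2 : WithBot ℕ∞) ≤ ringKrullDim (C ⧸ P)

theorem ringKrullDim_le_one_of_covBy {C : Type u} [CommRing C] [IsLocalRing C] (p : PrimeSpectrum C)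
    (h : p ⋖ closedPoint C) : ringKrullDim (C ⧸ p.asIdeal) ≤ 1 := by
  haveI : IsDomain (C ⧸ p.asIdeal) := Ideal.Quotient.isDomain _
  haveI : Ring.KrullDimLE 1 (C ⧸ p.asIdeal) := Ring.krullDimLE_one_iff_of_noZeroDivisors.2 fun P hP hPp => by
    haveI := hPp
    let P' : PrimeSpectrum C := ⟨P.comap (Ideal.Quotient.mk p.asIdeal), inferInstance⟩
    have hle : p ≤ P' := fun x hx => by
      show Ideal.Quotient.mk p.asIdeal x ∈ P
      rw [Ideal.Quotient.eq_zero_iff_mem.2 hx]
      exact zero_mem P
    have hne : p ≠ P' := fun he => hP (by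
      rw [← Ideal.map_comap_of_surjective _ Ideal.Quotient.mk_surjective P]
      show P'.asIdeal.map _ = ⊥
      rw [← he, Ideal.map_quotient_self])
    have heq : P' = closedPoint C := by
      by_contra hc
      exact h.2 (lt_of_le_of_ne hle hne) (lt_of_le_of_ne (le_maximalIdeal P'.isPrime.ne_top) hc)
    haveI : (P.comap (Ideal.Quotient.mk p.asIdeal)).IsMaximal := by
      show P'.asIdeal.IsMaximal
      rw [heq]
      exact maximalIdeal.isMaximal C
    rw [← Ideal.map_comap_of_surjective _ Ideal.Quotient.mk_surjective P]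
    exact Ideal.IsMaximal.map_of_surjective_of_ker_le Ideal.Quotient.mk_surjective (by
      rw [Ideal.mk_ker]; exact hle)
  exact (Order.krullDimLE_iff 1 _).1 inferInstance

/-- No finiteness for a one-dimensional piece. -/
theorem false_of_inj {L : Type u} [CommRing L] [IsNoetherianRing L] [IsLocalRing L] (K : Ideal L) (p : Ideal L)
    [p.IsPrime] (hK : ¬ K ≤ p) (hK' : K ≤ maximalIdeal L)
    (hmax : ∀ q : Ideal L, q.IsPrime → p < q → q = maximalIdeal L)
    (hf : Module.Finite L (LocCoh.H K 1 (L ⧸ p))) : False := by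
  obtain ⟨x, hxK, hxp⟩ := SetLike.not_le_iff_exists.1 hK
  let f : (L ⧸ p) →ₗ[L] (L ⧸ p) := x • LinearMap.id
  have hinj : Function.Injective f := (injective_iff_map_eq_zero _).2 fun z hz => by
    obtain ⟨c, rfl⟩ := Submodule.mkQ_surjective p z
    refine (Submodule.Quotient.mk_eq_zero p).2 ((Ideal.IsPrime.mem_or_mem ‹_› (?_ : x * c ∈ p)).resolve_left hxp)
    exact (Submodule.Quotient.mk_eq_zero p).1 hz
  let Q := (L ⧸ p) ⧸ LinearMap.range f
  have hrad : K ≤ (p ⊔ Ideal.span {x}).radical := by
    rw [Ideal.radical_eq_sInf]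
    refine le_sInf fun q ⟨hq, hqp⟩ => ?_
    haveI := hqp
    have hlt : p < q := lt_of_le_of_ne (le_sup_left.trans hq) fun he =>
      hxp (he ▸ hq (Submodule.mem_sup_right (Ideal.mem_span_singleton_self x)))
    rw [hmax q hqp hlt]
    exact hK'
  have htor : LocCoh.IsPowerTorsion K Q := fun z => by
    obtain ⟨n, hn⟩ := Ideal.exists_pow_le_of_le_radical_of_fg hrad (IsNoetherian.noetherian K)
    refine ⟨n, fun a ha => ?_⟩
    obtain ⟨v, rfl⟩ := Submodule.mkQ_surjective _ z
    obtain ⟨c, rfl⟩ := Submodule.mkQ_surjective p v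
    rw [← map_smul]
    refine (Submodule.Quotient.mk_eq_zero _).2 ?_
    obtain ⟨b, hb, e, he, hbe⟩ := Submodule.mem_sup.1 (hn ha)
    obtain ⟨d, rfl⟩ := Ideal.mem_span_singleton.1 he
    refine ⟨p.mkQ (d * c), ?_⟩
    show x • p.mkQ (d * c) = a • p.mkQ c
    rw [← map_smul, ← map_smul]
    refine (Submodule.Quotient.eq p).2 ?_
    rw [← hbe, smul_eq_mul, smul_eq_mul, show x * (d * c) - (b + x * d) * c = -(b * c) by ring]
    exact neg_mem (p.mul_mem_right c hb)
  haveI : Subsingleton (LocCoh.H K 1 Q) := subsingleton_H_of_torsion K Q htor 1 one_pos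
  have hfg := LinearMap.exact_map_mkQ_range f
  have hsurj : Function.Surjective (Hf K 1 f) := fun y =>
    ((exact_Hf hinj hfg (Submodule.mkQ_surjective _) 1) y).1 (Subsingleton.elim _ _)
  haveI : Subsingleton (LocCoh.H K 1 (L ⧸ p)) := by
    have htop : (⊤ : Submodule L (LocCoh.H K 1 (L ⧸ p))) = ⊥ := by
      refine Submodule.eq_bot_of_le_smul_of_le_jacobson_bot (maximalIdeal L) ⊤ hf.fg_top (fun y _ => ?_)
        (IsLocalRing.maximalIdeal_le_jacobson ⊥)
      obtain ⟨z, rfl⟩ := hsurj y
      rw [Hf_smul_id]
      exact Submodule.smul_mem_smul (hK' hxK) Submodule.mem_top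
    exact Submodule.subsingleton_iff L |>.1 (subsingleton_iff_bot_eq_top.1 htop.symm)
  have h0 : Function.Surjective (Hf K 0 (LinearMap.range f).mkQ) := fun y =>
    ((exact_Hδ hinj hfg (Submodule.mkQ_surjective _) 0).2 y).1 (Subsingleton.elim _ _)
  haveI : Subsingleton (LocCoh.H K 0 (L ⧸ p)) := by
    haveI : Subsingleton (DRing.torsionSub K (L ⧸ p)) := by
      rw [Submodule.subsingleton_iff_eq_bot, eq_bot_iff]
      rintro z ⟨n, hn⟩
      obtain ⟨c, rfl⟩ := Submodule.mkQ_surjective p z
      refine (Submodule.mem_bot L).2 ((Submodule.Quotient.mk_eq_zero p).2 ?_)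
      have h1 := hn (x ^ n) (Ideal.pow_mem_pow hxK n)
      rw [← map_smul] at h1
      exact ((Ideal.IsPrime.mem_or_mem ‹_› ((Submodule.Quotient.mk_eq_zero p).1 h1)).resolve_left
        fun h => hxp (Ideal.IsPrime.mem_of_pow_mem ‹_› n h))
    exact (H0Equiv K (L ⧸ p)).injective.subsingleton
  haveI : Subsingleton (LocCoh.H K 0 Q) := h0.subsingleton
  obtain ⟨e⟩ := H0Equiv_of_torsion K Q htor
  haveI : Subsingleton Q := e.symm.injective.subsingleton
  have h1 : Submodule.Quotient.mk (p := LinearMap.range f) (p.mkQ (1 : L)) = 0 := Subsingleton.elim _ _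
  obtain ⟨v, hv⟩ := (Submodule.Quotient.mk_eq_zero _).1 h1
  obtain ⟨c, rfl⟩ := Submodule.mkQ_surjective p v
  have h2 : x * c - 1 ∈ p := (Submodule.Quotient.eq p).1 hv
  exact (maximalIdeal.isMaximal L).ne_top ((Ideal.eq_top_iff_one _).2 (by
    have h3 := Ideal.sub_mem _ (Ideal.mul_mem_right c _ (hK' hxK)) (le_maximalIdeal (Ideal.IsPrime.ne_top ‹_›) h2)
    rwa [sub_sub_cancel] at h3))

/-- A covering pair at a smaller prime gives a contradiction. -/
theorem false_of_covBy {C : Type u} [CommRing C] [IsNoetherianRing C] [Algebra D C] [Module.Flat D C] (J : Ideal D)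
    {p q : PrimeSpectrum C} (hpq : p ⋖ q) (hp : ¬ J.map (algebraMap D C) ≤ p.asIdeal)
    (hq : J.map (algebraMap D C) ≤ q.asIdeal) (hass : p.asIdeal ∈ associatedPrimes C C)
    (hfin : Module.Finite (Localization.AtPrime (q.asIdeal.comap (algebraMap D C)))
      (LocalizedModule (q.asIdeal.comap (algebraMap D C)).primeCompl (LocCoh.H J 1 D))) : False := by
  let L := Localization.AtPrime q.asIdeal
  haveI : IsNoetherianRing L := IsLocalization.isNoetherianRing q.asIdeal.primeCompl _ inferInstance
  haveI : Module.Flat D L := Module.Flat.trans D C L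
  have hL : Module.Finite L (LocCoh.H (J.map (algebraMap D L)) 1 L) := by
    haveI := finite_tensor_of_finite_localized (q.asIdeal.comap (algebraMap D C)) L (fun s hs => by
      rw [IsScalarTower.algebraMap_apply D C L]
      exact IsLocalization.map_units L (⟨algebraMap D C s, hs⟩ : q.asIdeal.primeCompl))
      (LocCoh.H J 1 D) hfin
    exact Module.Finite.equiv (baseEquiv J L)
  have hpq' : p.asIdeal ≤ q.asIdeal := hpq.le
  have hdis : Disjoint (q.asIdeal.primeCompl : Set C) (p.asIdeal : Set C) :=
    Set.disjoint_left.2 fun s hs hsp => hs (hpq' hsp)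
  let p' : Ideal L := p.asIdeal.map (algebraMap C L)
  haveI hp' : p'.IsPrime := IsLocalization.isPrime_of_isPrime_disjoint q.asIdeal.primeCompl L _ p.isPrime hdis
  have hcomap' : p'.comap (algebraMap C L) = p.asIdeal :=
    IsLocalization.under_map_of_isPrime_disjoint q.asIdeal.primeCompl L p.isPrime hdis
  have hass' : p' ∈ associatedPrimes L L := by
    refine Module.associatedPrimes.mem_associatedPrimes_of_comap_mem_associatedPrimes_of_isLocalizedModule
      q.asIdeal.primeCompl (Algebra.linearMap C L) p' ?_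
    rw [hcomap']
    exact hass
  obtain ⟨-, f, hf⟩ := (isAssociatedPrime_iff_exists_injective_linearMap p' L).1 hass'
  refine false_of_inj (J.map (algebraMap D L)) p' (fun hle => hp ?_) ?_ (fun r hr hlt' => ?_)
    (finite_H1_of_inj f hf hL)
  · rw [Ideal.map_le_iff_le_comap, ← hcomap', Ideal.comap_comap, ← IsScalarTower.algebraMap_eq,
      ← Ideal.map_le_iff_le_comap]
    exact hle
  · rw [IsScalarTower.algebraMap_eq D C L, ← Ideal.map_map, ← Localization.AtPrime.map_eq_maximalIdeal]
    exact Ideal.map_mono hq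
  · haveI := hr
    let r' : PrimeSpectrum C := ⟨r.comap (algebraMap C L), inferInstance⟩
    have h1 : p < r' := by
      refine lt_of_le_of_ne (show p.asIdeal ≤ r.comap (algebraMap C L) from hcomap'.symm.trans_le (Ideal.comap_mono hlt'.le)) fun he => hlt'.ne ?_
      exact (congrArg (Ideal.map (algebraMap C L)) (congrArg PrimeSpectrum.asIdeal he)).trans
        (IsLocalization.map_under q.asIdeal.primeCompl L r)
    have h2 : r' ≤ q := by
      intro s hs
      have : algebraMap C L s ∈ maximalIdeal L := le_maximalIdeal hr.ne_top hs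
      rwa [IsLocalization.AtPrime.to_map_mem_maximal_iff L q.asIdeal] at this
    have h3 : r' = q := (lt_or_eq_of_le h2).resolve_left (hpq.2 h1)
    exact ((IsLocalization.map_under q.asIdeal.primeCompl L r).symm.trans
      (congrArg (Ideal.map (algebraMap C L)) (congrArg PrimeSpectrum.asIdeal h3))).trans
      (Localization.AtPrime.map_eq_maximalIdeal (I := q.asIdeal))

/-- Kollár's criterion for the ring itself. -/
theorem finite_H1_of_witness (J : Ideal D)
    (h : ∀ (Q : Ideal D) [Q.IsPrime], J ≤ Q → Witness Q) : Module.Finite D (LocCoh.H J 1 D) := by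
  have key : ∀ Q : PrimeSpectrum D,
      Module.Finite (Localization.AtPrime Q.asIdeal) (LocalizedModule Q.asIdeal.primeCompl (LocCoh.H J 1 D)) := by
    intro Q₀
    induction hn : Q₀.asIdeal.height.toNat using Nat.strong_induction_on generalizing Q₀ with
    | _ n IH =>
    subst hn
    rename PrimeSpectrum D => Q
    have ih : ∀ y : PrimeSpectrum D, y < Q →
        Module.Finite (Localization.AtPrime y.asIdeal) (LocalizedModule y.asIdeal.primeCompl (LocCoh.H J 1 D)) :=
      fun y hy => IH _ (ENat.natCast_lt_natCast.1 (by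
        rw [ENat.natCast_toNat Ideal.height_ne_top_of_isPrime, ENat.natCast_toNat Ideal.height_ne_top_of_isPrime]
        exact Ideal.height_strict_mono_of_isPrime_of_isPrime hy)) y rfl
    by_cases hJ : J ≤ Q.asIdeal
    swap
    · haveI := subsingleton_loc_H_of_not_le J Q.asIdeal hJ
      infer_instance
    obtain ⟨C, _, _, _, _, hflat, hmax, hcomap, ⟨S, _, _, π, hπ⟩, hP⟩ := h Q.asIdeal hJ
    have hunit : ∀ s ∉ Q.asIdeal, IsUnit (algebraMap D C s) := fun s hs => by
      refine IsLocalRing.notMem_maximalIdeal.1 fun hm => hs ?_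
      rw [← hcomap]
      exact hm
    letI : Algebra S C := π.toAlgebra
    haveI : Module.Finite S C := Module.Finite.of_surjective (Algebra.linearMap S C) hπ
    have hC : Module.Finite C (LocCoh.H (J.map (algebraMap D C)) 1 C) := by
      refine (FalLib.finite_below_iff (R := S) hπ (J.map (algebraMap D C)) C 1).2 ?_ 1 le_rfl
      intro p q hp hq hpq
      haveI : IsNoetherianRing (Localization.AtPrime p.asIdeal) :=
        IsLocalization.isNoetherianRing p.asIdeal.primeCompl _ inferInstance
      by_contra hdep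
      have hass : p.asIdeal ∈ associatedPrimes C C := by
        by_contra hna
        refine hdep ((CommAlgDim.le_depth_iff 1).2 ((CommAlgDim.hasSeqIn_one_iff _).2 fun P hP hle => ?_))
        have hPmax : P = maximalIdeal _ := le_antisymm (le_maximalIdeal hP.isPrime.ne_top) hle
        have hc := Module.associatedPrimes.comap_mem_associatedPrimes_of_mem_associatedPrimes_of_isLocalizedModule_of_fg
          p.asIdeal.primeCompl (LocalizedModule.mkLinearMap p.asIdeal.primeCompl C) P hP
          (IsNoetherian.noetherian _)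
        rw [hPmax, ← Ideal.under_def, IsLocalization.AtPrime.under_maximalIdeal (Localization.AtPrime p.asIdeal) p.asIdeal] at hc
        exact hna hc
      by_cases hqm : q.asIdeal = maximalIdeal C
      · have h1 := ringKrullDim_le_one_of_covBy p (by
          rwa [show closedPoint C = q from PrimeSpectrum.ext hqm.symm])
        have h2 : ((2 : ℕ) : WithBot ℕ∞) ≤ ((1 : ℕ) : WithBot ℕ∞) := by
          exact_mod_cast (hP _ hass).trans h1
        exact absurd (Nat.cast_le.1 h2) (by norm_num)
      let q' : PrimeSpectrum D := ⟨q.asIdeal.comap (algebraMap D C), inferInstance⟩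
      have hlt : q' < Q := by
        refine lt_of_le_of_ne (fun s hs => ?_) fun he => hqm ?_
        · show s ∈ Q.asIdeal
          rw [← hcomap]
          exact le_maximalIdeal q.isPrime.ne_top hs
        · refine le_antisymm (le_maximalIdeal q.isPrime.ne_top) ?_
          rw [hmax, Ideal.map_le_iff_le_comap]
          exact le_of_eq (congrArg PrimeSpectrum.asIdeal he).symm
      exact false_of_covBy J hpq hp hq hass (ih q' hlt)
    letI : Algebra (Localization.AtPrime Q.asIdeal) C :=
      (IsLocalization.lift (M := Q.asIdeal.primeCompl) (S := Localization.AtPrime Q.asIdeal)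
        (isUnit_of_comap Q.asIdeal hunit)).toAlgebra
    haveI : IsScalarTower D (Localization.AtPrime Q.asIdeal) C :=
      IsScalarTower.of_algebraMap_eq' (IsLocalization.lift_comp (isUnit_of_comap Q.asIdeal hunit)).symm
    haveI : Module.Flat (Localization.AtPrime Q.asIdeal) C :=
      (Module.flat_iff_of_isLocalization (Localization.AtPrime Q.asIdeal) Q.asIdeal.primeCompl C).2 hflat
    haveI : IsLocalHom (algebraMap (Localization.AtPrime Q.asIdeal) C) := ⟨fun z hz => by
      obtain ⟨d, s, rfl⟩ := IsLocalization.exists_mk'_eq Q.asIdeal.primeCompl z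
      rw [IsLocalization.AtPrime.isUnit_mk'_iff]
      intro hd
      have h1 : algebraMap D C d ∈ maximalIdeal C := by rw [hmax]; exact Ideal.mem_map_of_mem _ hd
      have h2 := hz.mul (hunit s.1 s.2)
      rw [IsScalarTower.algebraMap_apply D (Localization.AtPrime Q.asIdeal) C, ← map_mul,
        IsLocalization.mk'_spec, ← IsScalarTower.algebraMap_apply] at h2
      exact h1 h2⟩
    haveI : Module.FaithfullyFlat (Localization.AtPrime Q.asIdeal) C := Module.FaithfullyFlat.of_flat_of_isLocalHom
    haveI : Module.Finite C (C ⊗[D] LocCoh.H J 1 D) := Module.Finite.equiv (baseEquiv J C).symm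
    haveI : Module.Finite C (C ⊗[Localization.AtPrime Q.asIdeal] LocalizedModule Q.asIdeal.primeCompl (LocCoh.H J 1 D)) :=
      Module.Finite.equiv (locEquiv Q.asIdeal C (LocCoh.H J 1 D))
    exact Module.Finite.of_finite_tensorProduct_of_faithfullyFlat C
  refine finite_H_of_locally (I := J) 1 D (fun Q _ i hi => ?_) 1 le_rfl
  rcases Nat.le_one_iff_eq_zero_or_eq_one.1 hi with rfl | rfl
  · exact finite_localized_H0 J Q
  · exact key ⟨Q, ‹_›⟩

/-- The completion of a local algebra is a witness. -/
theorem witness_completion {R : Type u} [CommRing R] [IsNoetherianRing R] [IsLocalRing R] [Algebra D R]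
    [Module.Flat D R] (Q : Ideal D) (hQ : maximalIdeal R = Q.map (algebraMap D R))
    (hQ' : (maximalIdeal R).comap (algebraMap D R) = Q) (m : Ideal R) (hm : m = maximalIdeal R)
    (h : ∀ P ∈ associatedPrimes (AdicCompletion m R) (AdicCompletion m R),
      (2 : WithBot ℕ∞) ≤ ringKrullDim (AdicCompletion m R ⧸ P)) : Witness Q := by
  subst hm
  let C := AdicCompletion (maximalIdeal R) R
  haveI : IsNoetherianRing C := AdicRingLib.isNoetherianRing_adicCompletion _
  haveI : Module.Flat R C := AdicCompletion.flat_of_isNoetherian _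
  obtain ⟨S, _, _, π, hπ⟩ := Groth.Agent.DualCxLib.exists_regular_surjective C
  have hmC : maximalIdeal C = (maximalIdeal R).map (algebraMap R C) := AdicCompletion.maximalIdeal_eq_map
  refine ⟨C, inferInstance, inferInstance, inferInstance, inferInstance, Module.Flat.trans D R C, ?_, ?_,
    ⟨S, inferInstance, CommAlgDim.isRegularRing_of_isRegularLocalRing S, π, hπ⟩, h⟩
  · refine (hmC.trans (congrArg (Ideal.map (algebraMap R C)) hQ)).trans ?_
    rw [Ideal.map_map, ← IsScalarTower.algebraMap_eq]
  · rw [IsScalarTower.algebraMap_eq D R C, ← Ideal.comap_comap]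
    have : (maximalIdeal C).comap (algebraMap R C) = maximalIdeal R := by
      refine ((maximalIdeal.isMaximal R).eq_of_le (Ideal.comap_ne_top _ (maximalIdeal.isMaximal C).ne_top) ?_).symm
      rw [← Ideal.map_le_iff_le_comap, hmC]
    rw [this, hQ']

end FinH1Lib
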